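import Mathlib
import Cfsg.Prelude.Def_Classical
import Cfsg.Agent.Lib.Helper6.Syl8.Tools
import Cfsg.Agent.Lib.Helper46.Dihedral
import Cfsg.Agent.Lib.Helper40.SpSylow
import Cfsg.Agent.S0288

/-!
# S2931, second half: the Sylow `2`-subgroups of `S₈` and of `O₆⁻(2)` are isomorphic

Both are isomorphic to `D₈ ≀ C₂`, embedded in `S₈` in the usual way and in `O₆⁻(2)` by three explicit
matrices (found by machine search, checked here by `decide`).
-/

set_option autoImplicit false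

namespace Cfsg.Agent.Lib.Helper6.Syl8

open Matrix

/-- The index type of the `6`-dimensional quadratic space. -/
abbrev I6 : Type := (Fin 2 ⊕ Fin 2) ⊕ Fin 2

/-- Position of an index in the order `x₁, x₂, y₁, y₂, z₁, z₂`. -/
def idx6 : I6 → Fin 6
  | .inl (.inl i) => ⟨i.1, by have := i.2; omega⟩
  | .inl (.inr i) => ⟨i.1 + 2, by have := i.2; omega⟩
  | .inr i => ⟨i.1 + 4, by have := i.2; omega⟩

/-- A `6 × 6` matrix over `𝔽₂`, reindexed by `I6`. -/
def mk6 (M : Matrix (Fin 6) (Fin 6) (ZMod 2)) : Matrix I6 I6 (ZMod 2) :=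
  fun i j => M (idx6 i) (idx6 j)

def mR : Matrix I6 I6 (ZMod 2) :=
  mk6 !![1,0,0,1,0,0; 0,0,0,1,0,0; 0,0,1,0,0,0; 0,1,1,0,0,0; 0,0,0,0,1,0; 0,0,0,0,0,1]

def mRi : Matrix I6 I6 (ZMod 2) :=
  mk6 !![1,1,0,0,0,0; 0,0,1,1,0,0; 0,0,1,0,0,0; 0,1,0,0,0,0; 0,0,0,0,1,0; 0,0,0,0,0,1]

def mS : Matrix I6 I6 (ZMod 2) :=
  mk6 !![1,0,0,0,0,0; 0,0,0,1,0,0; 0,0,1,0,0,0; 0,1,0,0,0,0; 0,0,0,0,1,0; 0,0,0,0,0,1]

def mT : Matrix I6 I6 (ZMod 2) :=
  mk6 !![1,0,0,0,0,0; 0,1,0,1,0,1; 0,0,1,0,0,0; 0,1,0,1,1,0; 0,0,0,1,1,1; 0,1,0,0,1,1]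

set_option maxRecDepth 100000 in
def gR : GL I6 (ZMod 2) := ⟨mR, mRi, by decide, by decide⟩

set_option maxRecDepth 100000 in
def gS : GL I6 (ZMod 2) := ⟨mS, mS, by decide, by decide⟩

set_option maxRecDepth 100000 in
def gT : GL I6 (ZMod 2) := ⟨mT, mT, by decide, by decide⟩

/-- The quadratic form of minus type in dimension `6` over `𝔽₂`. -/
abbrev Q0 : (I6 → ZMod 2) → ZMod 2 := Cfsg.quadFormMinus 2 (ZMod 2) 1 1

/-- `O₆⁻(2)`. -/
abbrev O0 : Subgroup (GL I6 (ZMod 2)) := Cfsg.isometryGroup (ZMod 2) Q0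

set_option maxRecDepth 100000 in
theorem mR_iso : ∀ u : I6 → ZMod 2, Q0 (mR *ᵥ u) = Q0 u := by decide

set_option maxRecDepth 100000 in
theorem mS_iso : ∀ u : I6 → ZMod 2, Q0 (mS *ᵥ u) = Q0 u := by decide

set_option maxRecDepth 100000 in
theorem mT_iso : ∀ u : I6 → ZMod 2, Q0 (mT *ᵥ u) = Q0 u := by decide

def oR : ↥O0 := ⟨gR, fun u _ => mR_iso u⟩
def oS : ↥O0 := ⟨gS, fun u _ => mS_iso u⟩
def oT : ↥O0 := ⟨gT, fun u _ => mT_iso u⟩

set_option maxRecDepth 100000 in
theorem oR_pow : oR ^ 4 = 1 := by decide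

set_option maxRecDepth 100000 in
theorem oS_sq : oS * oS = 1 := by decide

set_option maxRecDepth 100000 in
theorem oT_sq : oT * oT = 1 := by decide

set_option maxRecDepth 100000 in
theorem oSR : oS * oR * oS⁻¹ = oR⁻¹ := by decide

set_option maxRecDepth 100000 in
theorem o_comm1 : oR * (oT * oR * oT⁻¹) = (oT * oR * oT⁻¹) * oR := by decide

set_option maxRecDepth 100000 in
theorem o_comm2 : oR * (oT * oS * oT⁻¹) = (oT * oS * oT⁻¹) * oR := by decide

set_option maxRecDepth 100000 in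
theorem o_comm3 : oS * (oT * oR * oT⁻¹) = (oT * oR * oT⁻¹) * oS := by decide

set_option maxRecDepth 100000 in
theorem o_comm4 : oS * (oT * oS * oT⁻¹) = (oT * oS * oT⁻¹) * oS := by decide

open Cfsg.Agent.Lib.Helper46 in
/-- The images of a dihedral lift commute with whatever the two generators commute with. -/
theorem dihedralLift_commute {Q : Type*} [Group Q] {n : ℕ} [NeZero n] (a b u : Q) (ha : a ^ n = 1)
    (hb : b * b = 1) (hab : b * a * b⁻¹ = a⁻¹) (h1 : Commute a u) (h2 : Commute b u)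
    (x : DihedralGroup n) : Commute (dihedralLift a b ha hb hab x) u := by
  rcases x with i | i
  · exact h1.pow_left _
  · exact h2.mul_left (h1.pow_left _)

open Cfsg.Agent.Lib.Helper46 in
/-- Two dihedral lifts, the second a conjugate of the first, commute elementwise as soon as the
generators do. -/
theorem dihedralLift_commute_conj {Q : Type*} [Group Q] {n : ℕ} [NeZero n] (a b t : Q)
    (ha : a ^ n = 1) (hb : b * b = 1) (hab : b * a * b⁻¹ = a⁻¹)
    (h1 : Commute a (t * a * t⁻¹)) (h2 : Commute a (t * b * t⁻¹))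
    (h3 : Commute b (t * a * t⁻¹)) (h4 : Commute b (t * b * t⁻¹)) (x y : DihedralGroup n) :
    Commute (dihedralLift a b ha hb hab x) (t * dihedralLift a b ha hb hab y * t⁻¹) := by
  have hx1 := dihedralLift_commute a b (t * a * t⁻¹) ha hb hab h1 h3 x
  have hx2 := dihedralLift_commute a b (t * b * t⁻¹) ha hb hab h2 h4 x
  rcases y with i | i
  · change Commute _ (t * a ^ i.val * t⁻¹)
    rw [← conj_pow]
    exact hx1.pow_right _
  · change Commute _ (t * (b * a ^ i.val) * t⁻¹)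
    have : t * (b * a ^ i.val) * t⁻¹ = (t * b * t⁻¹) * (t * a * t⁻¹) ^ i.val := by
      rw [conj_pow]; group
    rw [this]
    exact hx2.mul_right (hx1.pow_right _)

/-- The model group `D₈ ≀ C₂` of order `128`. -/
abbrev WB : Type := Wr2 (DihedralGroup 4)

theorem card_WB : Nat.card WB = 128 := by
  rw [card_wr2, DihedralGroup.nat_card]

open Cfsg.Agent.Lib.Helper46 in
/-- The first copy of `D₈` in `O₆⁻(2)`. -/
def aO : DihedralGroup 4 →* ↥O0 := dihedralLift oR oS oR_pow oS_sq oSR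

open Cfsg.Agent.Lib.Helper46 in
/-- The embedding of `D₈ ≀ C₂` in `O₆⁻(2)`. -/
def phiB0 : WB →* ↥O0 :=
  wrLift aO ((MulAut.conj oT).toMonoidHom.comp aO) oT oT_sq
    (fun x y => dihedralLift_commute_conj oR oS oT oR_pow oS_sq oSR o_comm1 o_comm2 o_comm3
      o_comm4 x y)
    (fun _ => rfl)

/-- The central involution of `D₈ ≀ C₂`. -/
def zB : WB := ⟨(DihedralGroup.r 2, DihedralGroup.r 2), 1⟩

set_option maxRecDepth 100000 in
theorem center_WB_aux : ∀ w : WB,
    (⟨(DihedralGroup.r 1, 1), 1⟩ : WB) * w = w * ⟨(DihedralGroup.r 1, 1), 1⟩ →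
    (⟨(DihedralGroup.sr 0, 1), 1⟩ : WB) * w = w * ⟨(DihedralGroup.sr 0, 1), 1⟩ →
    (⟨(1, 1), c2g⟩ : WB) * w = w * ⟨(1, 1), c2g⟩ → w = 1 ∨ w = zB := by decide

theorem center_WB (w : WB) (hw : w ∈ Subgroup.center WB) : w = 1 ∨ w = zB :=
  center_WB_aux w (Subgroup.mem_center_iff.mp hw _) (Subgroup.mem_center_iff.mp hw _)
    (Subgroup.mem_center_iff.mp hw _)

theorem isPGroup_WB : IsPGroup 2 WB :=
  IsPGroup.of_card (n := 7) (by rw [card_WB]; norm_num)

set_option maxRecDepth 100000 in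
theorem phiB0_zB : phiB0 zB ≠ 1 := by decide

theorem phiB0_injective : Function.Injective phiB0 :=
  injective_of_center isPGroup_WB zB center_WB phiB0 phiB0_zB

/-! ### The embedding in `S₈` -/

def pR : Equiv.Perm (Fin 8) := ⟨![1,2,3,0,4,5,6,7], ![3,0,1,2,4,5,6,7], by decide, by decide⟩
def pS : Equiv.Perm (Fin 8) := ⟨![0,3,2,1,4,5,6,7], ![0,3,2,1,4,5,6,7], by decide, by decide⟩
def pT : Equiv.Perm (Fin 8) := ⟨![4,5,6,7,0,1,2,3], ![4,5,6,7,0,1,2,3], by decide, by decide⟩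

theorem pR_pow : pR ^ 4 = 1 := by decide
theorem pS_sq : pS * pS = 1 := by decide
theorem pT_sq : pT * pT = 1 := by decide
theorem pSR : pS * pR * pS⁻¹ = pR⁻¹ := by decide

open Cfsg.Agent.Lib.Helper46 in
/-- The first copy of `D₈` in `S₈`. -/
def aP : DihedralGroup 4 →* Equiv.Perm (Fin 8) := dihedralLift pR pS pR_pow pS_sq pSR

theorem aP_comm : ∀ x y : DihedralGroup 4, aP x * (pT * aP y * pT⁻¹) = (pT * aP y * pT⁻¹) * aP x := by
  decide

/-- The embedding of `D₈ ≀ C₂` in `S₈`. -/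
def psiB : WB →* Equiv.Perm (Fin 8) :=
  wrLift aP ((MulAut.conj pT).toMonoidHom.comp aP) pT pT_sq (fun x y => aP_comm x y)
    (fun _ => rfl)

theorem psiB_zB : psiB zB ≠ 1 := by decide

theorem psiB_injective : Function.Injective psiB :=
  injective_of_center isPGroup_WB zB center_WB psiB psiB_zB

/-! ### Transport to an arbitrary field with two elements -/

theorem factorization_two_pow_mul (k m : ℕ) (hm : ¬ 2 ∣ m) : (2 ^ k * m).factorization 2 = k := by
  have hm0 : m ≠ 0 := fun h => hm (h ▸ dvd_zero 2)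
  rw [Nat.factorization_mul (pow_ne_zero k two_ne_zero) hm0, Finsupp.add_apply,
    Nat.Prime.factorization_pow Nat.prime_two, Nat.factorization_eq_zero_of_not_dvd hm]
  simp

theorem zmod2_cases : ∀ y : ZMod 2, y = 0 ∨ y = 1 := by decide

theorem zmod2_two : (2 : ZMod 2) = 0 := by decide

section transport

variable {K : Type} [Field K] [Fintype K]

theorem quadFormMinus_map (e : ZMod 2 →+* K) (w : I6 → ZMod 2) :
    Cfsg.quadFormMinus 2 K 1 1 (e ∘ w) = e (Q0 w) := by
  unfold Q0 Cfsg.quadFormMinus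
  simp only [Function.comp_apply, map_add, map_mul, map_pow, map_sum, map_one]

/-- Transport of isometries along a ring isomorphism `𝔽₂ ≃ K`. -/
noncomputable def tauB (e : ZMod 2 ≃+* K) :
    ↥O0 →* ↥(Cfsg.isometryGroup K (Cfsg.quadFormMinus 2 K 1 1)) :=
  ((Matrix.GeneralLinearGroup.map (e : ZMod 2 →+* K)).comp O0.subtype).codRestrict _ (by
    intro g u _
    change Cfsg.quadFormMinus 2 K 1 1 (((g.1 : GL I6 (ZMod 2)) : Matrix I6 I6 (ZMod 2)).map
      (e : ZMod 2 →+* K) *ᵥ u) = Cfsg.quadFormMinus 2 K 1 1 u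
    set u₀ : I6 → ZMod 2 := fun i => e.symm (u i) with hu₀
    have hu : u = (e : ZMod 2 →+* K) ∘ u₀ := by
      funext i
      simp [hu₀]
    have h1 : ((g.1 : GL I6 (ZMod 2)) : Matrix I6 I6 (ZMod 2)).map (e : ZMod 2 →+* K) *ᵥ
        ((e : ZMod 2 →+* K) ∘ u₀) =
        (e : ZMod 2 →+* K) ∘ (((g.1 : GL I6 (ZMod 2)) : Matrix I6 I6 (ZMod 2)) *ᵥ u₀) := by
      funext i
      exact (RingHom.map_mulVec (e : ZMod 2 →+* K) _ _ i).symm
    rw [hu, h1, quadFormMinus_map, quadFormMinus_map]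
    exact congrArg _ (g.2 u₀ u₀))

theorem tauB_injective (e : ZMod 2 ≃+* K) : Function.Injective (tauB e) := by
  intro g h hgh
  have h1 : Matrix.GeneralLinearGroup.map (e : ZMod 2 →+* K) g.1 =
      Matrix.GeneralLinearGroup.map (e : ZMod 2 →+* K) h.1 := congrArg Subtype.val hgh
  apply Subtype.ext
  apply Units.ext
  ext i j
  have h2 := congrArg (fun x : GL I6 K => (x : Matrix I6 I6 K) i j) h1
  simp only [Matrix.GeneralLinearGroup.map_apply] at h2
  exact e.injective h2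

/-- Second half of S2931. -/
theorem partB (hK : Fintype.card K = 2) (a b : K)
    (hab : ∀ z₁ z₂ : K, z₁ ^ 2 + a * z₁ * z₂ + b * z₂ ^ 2 = 0 → z₁ = 0 ∧ z₂ = 0)
    (P' : Sylow 2 (Equiv.Perm (Fin 8)))
    (Q' : Sylow 2 ↥(Cfsg.isometryGroup K (Cfsg.quadFormMinus 2 K a b))) :
    Nonempty (↥(P' : Subgroup (Equiv.Perm (Fin 8))) ≃*
      ↥(Q' : Subgroup ↥(Cfsg.isometryGroup K (Cfsg.quadFormMinus 2 K a b)))) := by
  have h2p : Fact (Nat.Prime 2) := ⟨Nat.prime_two⟩
  let e : ZMod 2 ≃+* K := ZMod.ringEquivOfPrime K Nat.prime_two hK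
  have h01 : ∀ x : K, x = 0 ∨ x = 1 := by
    intro x
    rcases zmod2_cases (e.symm x) with h | h
    · left
      have := congrArg e h
      simpa using this
    · right
      have := congrArg e h
      simpa using this
  have h20 : (2 : K) = 0 := by
    calc (2 : K) = e (2 : ZMod 2) := (map_ofNat e 2).symm
      _ = e 0 := by rw [zmod2_two]
      _ = 0 := map_zero e
  have hb : b = 1 := by
    rcases h01 b with h | h
    · exfalso
      have := (hab 0 1 (by rw [h]; ring)).2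
      exact one_ne_zero this
    · exact h
  have ha : a = 1 := by
    rcases h01 a with h | h
    · exfalso
      have := (hab 1 1 (by rw [h, hb]; linear_combination h20)).2
      exact one_ne_zero this
    · exact h
  subst ha hb
  -- cardinalities
  have hcP : Nat.card WB = 2 ^ (Nat.card (Equiv.Perm (Fin 8))).factorization 2 := by
    have h1 : Nat.card (Equiv.Perm (Fin 8)) = 2 ^ 7 * 315 := by
      rw [Nat.card_eq_fintype_card, Fintype.card_perm, Fintype.card_fin]
      decide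
    rw [h1, factorization_two_pow_mul 7 315 (by decide), card_WB]
    norm_num
  have hcQ : Nat.card WB =
      2 ^ (Nat.card ↥(Cfsg.isometryGroup K (Cfsg.quadFormMinus 2 K 1 1))).factorization 2 := by
    have h1 := Cfsg.Agent.S0288.result (F := K) (q := 2) hK 3 (by norm_num) 1 1 hab
    have h2 : Nat.card ↥(Cfsg.isometryGroup K (Cfsg.quadFormMinus 2 K 1 1)) = 2 ^ 7 * 405 := by
      have h1' : Nat.card ↥(Cfsg.isometryGroup K (Cfsg.quadFormMinus 2 K 1 1)) =
          2 * 2 ^ (3 * (3 - 1)) * (2 ^ 3 + 1) *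
            ∏ i ∈ Finset.range (3 - 1), (2 ^ (2 * (i + 1)) - 1) := h1
      rw [h1']
      simp [Finset.prod_range_succ]
    rw [h2, factorization_two_pow_mul 7 405 (by decide), card_WB]
    norm_num
  obtain ⟨f1⟩ := Cfsg.Agent.Lib.Helper40.sylow_equiv_of_injective 2 psiB psiB_injective hcP P'
  obtain ⟨f2⟩ := Cfsg.Agent.Lib.Helper40.sylow_equiv_of_injective 2 ((tauB e).comp phiB0)
    ((tauB_injective e).comp phiB0_injective) hcQ Q'
  exact ⟨f1.trans f2.symm⟩

end transport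

end Cfsg.Agent.Lib.Helper6.Syl8
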